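import Mathlib

/-!
# Extensions of an ideal by the ring: freeness of the middle term
-/

set_option autoImplicit false

universe u

namespace Groth.ExtFree

open CategoryTheory Abelian

variable {A : Type u} [CommRing A] [IsLocalRing A]

theorem free_of_ext_eq_zero (M : ModuleCat.{u} A) {ι : Type u} [Finite ι] (π : (ι → A) →ₗ[A] M)
    (hπ : Function.Surjective π) [Module.Free A (LinearMap.ker π)]
    [Module.Finite A (LinearMap.ker π)]
    (h : ∀ x : Ext M (ModuleCat.of A A) 1, x = 0) : Module.Free A M := by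
  let T : ShortComplex (ModuleCat.{u} A) :=
    ShortComplex.mk (ModuleCat.ofHom (LinearMap.ker π).subtype) (ModuleCat.ofHom π) (by
      ext x
      exact x.2)
  have hTe : T.Exact := by
    rw [ShortComplex.moduleCat_exact_iff]
    exact fun x hx => ⟨⟨x, hx⟩, rfl⟩
  have hT : T.ShortExact :=
    { exact := hTe
      mono_f := (ModuleCat.mono_iff_injective _).mpr Subtype.val_injective
      epi_g := (ModuleCat.epi_iff_surjective _).mpr hπ }
  let b := Module.Free.chooseBasis A (LinearMap.ker π)
  have hext : ∀ i, ∃ c : (ι → A) →ₗ[A] A, ∀ k : LinearMap.ker π, c k = b.coord i k := by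
    intro i
    obtain ⟨x₂, hx₂⟩ := Ext.contravariant_sequence_exact₁ hT (ModuleCat.of A A)
      (Ext.mk₀ (ModuleCat.ofHom (b.coord i) : T.X₁ ⟶ ModuleCat.of A A)) (add_zero 1) (h _)
    obtain ⟨c, rfl⟩ := (Ext.mk₀_bijective _ _).2 x₂
    rw [Ext.mk₀_comp_mk₀] at hx₂
    have hc := (Ext.mk₀_bijective _ _).1 hx₂
    exact ⟨c.hom, fun k => congrArg (fun φ : T.X₁ ⟶ ModuleCat.of A A => φ.hom k) hc⟩
  choose c hc using hext
  let r : (ι → A) →ₗ[A] (ι → A) :=
    (LinearMap.ker π).subtype ∘ₗ ∑ i, (c i).smulRight (b i)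
  have hr : ∀ v, π v = 0 → r v = v := fun v hv => by
    have : (∑ i, (c i).smulRight (b i)) v = (⟨v, hv⟩ : LinearMap.ker π) := by
      rw [LinearMap.sum_apply]
      simp only [LinearMap.smulRight_apply]
      conv_rhs => rw [← b.sum_repr ⟨v, hv⟩]
      exact Finset.sum_congr rfl fun i _ => by rw [show c i v = _ from hc i ⟨v, hv⟩]; rfl
    exact congrArg Subtype.val this
  have hker : LinearMap.ker π ≤ LinearMap.ker (LinearMap.id - r) := fun v hv => by
    rw [LinearMap.mem_ker, LinearMap.sub_apply, LinearMap.id_apply, hr v hv, sub_self]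
  let s : M →ₗ[A] (ι → A) :=
    (Submodule.liftQ _ _ hker) ∘ₗ (π.quotKerEquivOfSurjective hπ).symm.toLinearMap
  have hs : π ∘ₗ s = LinearMap.id := by
    refine LinearMap.ext fun m => ?_
    obtain ⟨v, rfl⟩ := hπ m
    change π (Submodule.liftQ _ _ hker ((π.quotKerEquivOfSurjective hπ).symm (π v))) = _
    rw [show (π.quotKerEquivOfSurjective hπ).symm (π v) = Submodule.Quotient.mk v from
      (LinearEquiv.symm_apply_eq _).mpr rfl, Submodule.liftQ_apply, LinearMap.sub_apply, map_sub,
      LinearMap.id_apply, LinearMap.id_apply]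
    have : π (r v) = 0 := LinearMap.mem_ker.mp ((∑ i, (c i).smulRight (b i)) v).2
    rw [this, sub_zero]
  have : Module.Projective A M := Module.Projective.of_split s π hs
  have : Module.Finite A M := Module.Finite.of_surjective π hπ
  exact Module.free_of_flat_of_isLocalRing

theorem free_iff [IsNoetherianRing A] {I : Ideal A}
    (hres : ∃ (q : ℕ) (φ : (Fin q → A) →ₗ[A] I),
      Function.Surjective φ ∧ Module.Free A (LinearMap.ker φ))
    (S : ShortComplex (ModuleCat.{u} A)) (hS : S.ShortExact)
    (h₁ : Nonempty (S.X₁ ≅ ModuleCat.of A A)) (h₃ : Nonempty (S.X₃ ≅ ModuleCat.of A I)) :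
    Module.Free A S.X₂ ↔ ∀ x : Ext S.X₃ S.X₁ 1,
      ∃ f : S.X₁ ⟶ S.X₁, hS.extClass.comp (Ext.mk₀ f) (add_zero 1) = x := by
  obtain ⟨e₁⟩ := h₁
  obtain ⟨e₃⟩ := h₃
  have hX₁ : Projective S.X₁ :=
    Projective.of_iso e₁.symm (ModuleCat.projective_of_free (ι := Unit) (Module.Basis.singleton Unit A))
  constructor
  · intro hfree x
    have : Projective S.X₂ :=
      ModuleCat.projective_of_free (Module.Free.chooseBasis A S.X₂)
    obtain ⟨x₁, hx₁⟩ := Ext.contravariant_sequence_exact₃ hS S.X₁ x
      (Ext.eq_zero_of_projective _) (add_zero 1)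
    obtain ⟨f, rfl⟩ := (Ext.mk₀_bijective _ _).2 x₁
    exact ⟨f, hx₁⟩
  · intro hgen
    obtain ⟨q, φ, hφ, hfree⟩ := hres
    have hg : Function.Surjective S.g.hom := (ModuleCat.epi_iff_surjective _).mp hS.epi_g
    have hinj : Function.Injective S.f.hom := (ModuleCat.mono_iff_injective _).mp hS.mono_f
    have hexact := (ShortComplex.ShortExact.moduleCat_exact_iff_function_exact _).mp hS.exact
    obtain ⟨ψ, hψ⟩ := Module.projective_lifting_property S.g.hom
      (e₃.inv.hom ∘ₗ φ) hg
    let π : (ULift.{u} (Option (Fin q)) → A) →ₗ[A] S.X₂ :=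
      (S.f.hom ∘ₗ e₁.inv.hom).comp (LinearMap.proj (ULift.up none)) +
        ψ ∘ₗ LinearMap.funLeft A A (fun i => ULift.up (some i))
    have hπ : Function.Surjective π := by
      intro m
      obtain ⟨v, hv⟩ := hφ (e₃.hom.hom (S.g.hom m))
      have : S.g.hom (m - ψ v) = 0 := by
        rw [map_sub, show S.g.hom (ψ v) = e₃.inv.hom (φ v) from LinearMap.congr_fun hψ v, hv]
        exact sub_eq_zero.mpr (ConcreteCategory.congr_hom e₃.hom_inv_id (S.g.hom m)).symm
      obtain ⟨a, ha⟩ := (hexact (m - ψ v)).mp this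
      refine ⟨fun i => Option.elim i.down (e₁.hom.hom a) v, ?_⟩
      change S.f.hom (e₁.inv.hom (e₁.hom.hom a)) + ψ v = m
      rw [show e₁.inv.hom (e₁.hom.hom a) = a from ConcreteCategory.congr_hom e₁.hom_inv_id a, ha,
        sub_add_cancel]
    have hfgψ : ∀ w : ULift.{u} (Option (Fin q)) → A, π w = 0 →
        φ (LinearMap.funLeft A A (fun i => ULift.up (some i)) w) = 0 := fun w hw => by
      have h0 : S.g.hom (π w) = 0 := by rw [hw, map_zero]
      have hfg : ∀ a, S.g.hom (S.f.hom a) = 0 := fun a => hexact.apply_apply_eq_zero a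
      simp only [π, LinearMap.add_apply, LinearMap.comp_apply, map_add, hfg, zero_add] at h0
      rw [show ∀ v, S.g.hom (ψ v) = e₃.inv.hom (φ v) from LinearMap.congr_fun hψ] at h0
      exact (ModuleCat.mono_iff_injective e₃.inv).mp inferInstance (h0.trans (map_zero _).symm)
    let k : LinearMap.ker π →ₗ[A] LinearMap.ker φ :=
      LinearMap.codRestrict _ ((LinearMap.funLeft A A (fun i => ULift.up (some i))) ∘ₗ
        (LinearMap.ker π).subtype) fun w => hfgψ w.1 w.2
    have hk : Function.Bijective k := by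
      constructor
      · rw [injective_iff_map_eq_zero]
        rintro ⟨w, hw⟩ h0
        have hs : ∀ i, w (ULift.up (some i)) = 0 := fun i =>
          congrFun (congrArg Subtype.val h0) i
        have hw' : S.f.hom (e₁.inv.hom (w (ULift.up none))) +
            ψ (fun i => w (ULift.up (some i))) = 0 := hw
        rw [show (fun i => w (ULift.up (some i))) = 0 from funext hs, map_zero, add_zero] at hw'
        have := (ModuleCat.mono_iff_injective e₁.inv).mp inferInstance
          ((hinj (hw'.trans (map_zero _).symm)).trans (map_zero _).symm)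
        refine Subtype.ext (funext fun i => ?_)
        obtain ⟨_ | i⟩ := i
        · exact this
        · exact hs i
      · rintro ⟨v, hv⟩
        have : S.g.hom (- ψ v) = 0 := by
          rw [map_neg, show S.g.hom (ψ v) = e₃.inv.hom (φ v) from LinearMap.congr_fun hψ v,
            LinearMap.mem_ker.mp hv, map_zero, neg_zero]
        obtain ⟨a, ha⟩ := (hexact _).mp this
        refine ⟨⟨fun i => Option.elim i.down (e₁.hom.hom a) v, ?_⟩, rfl⟩
        change S.f.hom (e₁.inv.hom (e₁.hom.hom a)) + ψ v = 0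
        rw [show e₁.inv.hom (e₁.hom.hom a) = a from ConcreteCategory.congr_hom e₁.hom_inv_id a,
          ha, neg_add_cancel]
    have : Module.Free A (LinearMap.ker π) :=
      Module.Free.of_equiv (LinearEquiv.ofBijective k hk).symm
    refine free_of_ext_eq_zero S.X₂ π hπ fun y => ?_
    -- transport the coefficient module along `e₁`
    have hy : ∀ y : Ext S.X₂ S.X₁ 1, y = 0 := by
      intro y
      obtain ⟨x, rfl⟩ := Ext.contravariant_sequence_exact₂ hS S.X₁ y (Ext.eq_zero_of_projective _)
      obtain ⟨f, rfl⟩ := hgen x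
      exact hS.comp_extClass_assoc _ _
    have := hy (y.comp (Ext.mk₀ e₁.inv) (add_zero 1))
    have h2 := congrArg (fun z => z.comp (Ext.mk₀ e₁.hom) (add_zero 1)) this
    simpa [Ext.comp_assoc_of_second_deg_zero, Ext.comp_mk₀_id] using h2

end Groth.ExtFree
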